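import Cfsg.Prelude.Def_CaseTheorems
import Mathlib.GroupTheory.Commutator.Basic
import Mathlib.Algebra.BigOperators.Fin
import Mathlib.Data.Rat.Defs

/-!
# Groups with Sylow 2-subgroups of U3(4) type: shared interfaces

`Shape` lists what is used about the Sylow 2-subgroup, `Cfg` is the configuration at an involution `a`,
`Rows` is the integral column data of the principal 2-block at `a` when the core of the centralizer of `a`
is non-trivial.
-/

set_option autoImplicit false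

namespace Cfsg.Agent.H53.U34

/-- The properties used about a Sylow 2-subgroup of `PSU(3,4)`. -/
structure Shape (P : Type*) [Group P] : Prop where
  card : Nat.card P = 64
  card_center : Nat.card (Subgroup.center P) = 4
  sq_eq_one : ∀ x : P, x * x = 1 ↔ x ∈ Subgroup.center P
  sq_mem : ∀ x : P, x * x ∈ Subgroup.center P
  commutator : ∀ x : P, x ∉ Subgroup.center P → ∀ z ∈ Subgroup.center P, ∃ y : P, x * y * x⁻¹ * y⁻¹ = z
  /-- odd automorphisms fixing the centre pointwise: order 1 or 5, without fixed points on `P / Z(P)`. -/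
  aut : ∀ φ : MulAut P, Odd (orderOf φ) → (∀ z ∈ Subgroup.center P, φ z = z) →
    φ = 1 ∨ (orderOf φ = 5 ∧ ∀ x : P, φ x * x⁻¹ ∈ Subgroup.center P → x ∈ Subgroup.center P)

/-- The configuration at the involution `a`: `C(a) = O (S Q)` with `O` the odd core, `Q` of order `n`. -/
structure Cfg (G : Type*) [Group G] where
  S : Sylow 2 G
  shape : Shape (S : Subgroup G)
  /-- `Z` is the centre of `S`, as a subgroup of `G`. -/
  Z : Subgroup G
  Z_eq : Z = (Subgroup.center (S : Subgroup G)).map (S : Subgroup G).subtype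
  a : G
  b : G
  c : G
  mem_Z : ∀ z : G, z ∈ Z ↔ z = 1 ∨ z = a ∨ z = b ∨ z = c
  orderOf_a : orderOf a = 2
  orderOf_b : orderOf b = 2
  orderOf_c : orderOf c = 2
  ne_ab : a ≠ b
  mul_ab : a * b = c
  /-- all involutions are conjugate. -/
  isConj_a : ∀ i : G, orderOf i = 2 → IsConj a i
  /-- the odd core of `C(a)` as a subgroup of `G`. -/
  O : Subgroup G
  O_eq : O = (oddCore (Subgroup.centralizer ({a} : Set G))).map
    (Subgroup.centralizer ({a} : Set G)).subtype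
  O_odd : Odd (Nat.card O)
  S_le : (S : Subgroup G) ≤ Subgroup.centralizer ({a} : Set G)
  n : ℕ
  n_eq : n = 1 ∨ n = 5
  Q : Subgroup G
  /-- `Q` is cyclic, of order `n` modulo `O`. -/
  Q_cyclic : ∃ q : G, Q = Subgroup.zpowers q ∧ q ^ n ∈ O
  Q_odd : Odd (Nat.card Q)
  Q_central : Q ≤ Subgroup.centralizer (Z : Set G)
  Q_normalizes : Q ≤ Subgroup.normalizer ((S : Subgroup G) : Set G)
  Q_fpf : ∀ q ∈ Q, q ∉ O → ∀ x ∈ (S : Subgroup G), q * x * q⁻¹ * x⁻¹ ∈ Z → x ∈ Z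
  cover : ∀ g : G, g ∈ Subgroup.centralizer ({a} : Set G) ↔
    ∃ o ∈ O, ∃ s ∈ (S : Subgroup G), ∃ q ∈ Q, g = o * s * q
  card_centralizer : Nat.card (Subgroup.centralizer ({a} : Set G)) = Nat.card O * (64 * n)
  /-- a 3-element cycling `a`, `b`, `c`. -/
  t : G
  t_a : t * a * t⁻¹ = b
  t_b : t * b * t⁻¹ = c
  t_c : t * c * t⁻¹ = a
  t_S : t ∈ Subgroup.normalizer ((S : Subgroup G) : Set G)
  t_Q : ∀ q ∈ Q, q⁻¹ * (t * q * t⁻¹) ∈ O
  /-- balance: `C_O(b)` lies in the core of `C(b) = t C(a) t⁻¹`. -/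
  balance_b : ∀ v ∈ O, Commute v b → t⁻¹ * v * t ∈ O
  balance_c : ∀ v ∈ O, Commute v c → t * v * t⁻¹ ∈ O

/-- Integral column data of the non-trivial characters of the principal 2-block at `a`, for `n = 5` and
a non-trivial core: `c`, `v` are the lattice coordinates and `E` gives the degree
`64 E - 3 A + 4 C` with `A = -(4 Σ c + 5 v)`, `C = -v`. -/
structure Rows (X : Type*) [Fintype X] where
  c : X → Fin 5 → ℤ
  v : X → ℤ
  E : X → ℤ
  gal : Equiv.Perm X
  gal_c : ∀ x k, c (gal x) k = c x (2 * k)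
  gal_v : ∀ x, v (gal x) = v x
  gal_E : ∀ x, E (gal x) = E x
  gram_cc : ∀ k l, ∑ x, c x k * c x l =
    (if k = l then 5 else 1) - (if k = 0 ∧ l = 0 then 1 else 0)
  gram_cv : ∀ k, ∑ x, c x k * v x = if k = 0 then -3 else -4
  gram_vv : ∑ x, v x * v x = 15
  lt_sub_v : ∀ x, 1 ≤ E x - v x
  psi_nonneg : ∀ x, 0 ≤ 4 * (E x - 1) + (∑ k, c x k) + v x
  deg_pos : ∀ x, 0 < 64 * E x + 3 * (4 * (∑ k, c x k) + 5 * v x) - 4 * v x
  linear_c : ∀ k, ∑ x, c x k * E x = -1
  linear_v : ∑ x, v x * E x = 1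
  pairs_v : ∑ x, ((v x * (4 * (∑ k, c x k) + 5 * v x) ^ 2 : ℤ) : ℚ) /
    (64 * E x + 3 * (4 * (∑ k, c x k) + 5 * v x) - 4 * v x : ℤ) = 1
  pairs_c : ∑ x, (((c x 0 - c x 1) * (4 * (∑ k, c x k) + 5 * v x) ^ 2 : ℤ) : ℚ) /
    (64 * E x + 3 * (4 * (∑ k, c x k) + 5 * v x) - 4 * v x : ℤ) = -1

end Cfsg.Agent.H53.U34
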