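import Cfsg.Agent.H53.U34.Chars.Core
import Cfsg.Agent.H27.U34.Endgame
import Cfsg.Agent.H31.U34.Shape

/-!
# Simple groups with Sylow 2-subgroups of the type of `PSU(3,4)`
-/

set_option autoImplicit false

namespace Cfsg.Agent.H53.U34

universe u v

variable {G : Type u} [Group G] [Finite G] [IsSimpleGroup G]

theorem core_trivial (K : Cfg G) : K.O = ⊥ := by
  cases nonempty_fintype G
  obtain ⟨M, hM⟩ := BlockBasic.exists_isPModular Nat.prime_two
  by_contra h
  exact K.false_of_core_ne_bot hM h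

theorem nonempty_equiv_PSU {F : Type v} [Field F] [Fintype F] (hF : Fintype.card F = 16) (S : Sylow 2 G)
    (P : Sylow 2 (Cfsg.PSU 3 F 4))
    (hS : Nonempty ((S : Subgroup G) ≃* (P : Subgroup (Cfsg.PSU 3 F 4)))) :
    Nonempty (G ≃* Cfsg.PSU 3 F 4) := by
  obtain ⟨e⟩ := hS
  exact H27.U34.iso_of_core_trivial S (H31.U34.shape_of_iso hF P e) core_trivial hF

end Cfsg.Agent.H53.U34
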