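import Cfsg.Agent.H53.U34.Defs

/-!
# The special sections at the involution `a`

`K.TA m` is the part of the section of `a` over the coset `O S q^m`, `K.TW` the union of the sections of
the elements of order 4 squaring to `a`.
-/

set_option autoImplicit false

namespace Cfsg.Agent.H53.U34.Cfg

variable {G : Type*} [Group G] (K : Cfg G)

/-- The chosen generator of `Q`. -/
noncomputable def gen : G := Classical.choose K.Q_cyclic

theorem Q_eq : K.Q = Subgroup.zpowers K.gen := (Classical.choose_spec K.Q_cyclic).1

theorem gen_pow_mem : K.gen ^ K.n ∈ K.O := (Classical.choose_spec K.Q_cyclic).2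

/-- Elements `a y` with `y` in `O q^m` (the section of `a` over `q^m`, up to conjugation in `C(a)`). -/
def TA (m : ℕ) : Set G :=
  {g | ∃ h ∈ Subgroup.centralizer ({K.a} : Set G), ∃ o ∈ K.O, g = h * (K.a * (o * K.gen ^ m)) * h⁻¹}

/-- Elements of `C(a)` in the sections of the elements of order 4 squaring to `a`. -/
def TW : Set G :=
  {g | ∃ h ∈ Subgroup.centralizer ({K.a} : Set G), ∃ o ∈ K.O, ∃ x ∈ (K.S : Subgroup G),
    x * x = K.a ∧ g = h * (o * x) * h⁻¹}

/-- The union of the special sections. -/
def T : Set G := {g | g ∈ K.TW ∨ ∃ m, g ∈ K.TA m}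

end Cfsg.Agent.H53.U34.Cfg
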